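import Mathlib
import Groth.Agent.Lib.Helper5.ExactPQ.CokerP

/-!
# `opcycles^{p+1}(M ⊗ E) = M ⊗ coker(d^p)` for a general right exact bifunctor (helper5)
-/
set_option autoImplicit false
set_option linter.unusedSectionVars false
set_option linter.unusedVariables false
set_option linter.style.haveILetI false
universe v u
open CategoryTheory CategoryTheory.Limits HomologicalComplex

namespace Groth.Agent.Lib.Helper5.RingCBC

open Groth.Agent.Lib.Helper5.ExactPQ

section Sq

/-- monomorphisms and epimorphisms are invariant under isomorphisms of arrows -/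
lemma epi_iff_of_sq {D : Type*} [Category D] {X Y X' Y' : D} (f : X ⟶ Y) (g : X' ⟶ Y')
    (l : X ≅ X') (r : Y ≅ Y') (h : l.hom ≫ g = f ≫ r.hom) : Epi f ↔ Epi g := by
  have hg : g = l.inv ≫ f ≫ r.hom := by rw [← h, Iso.inv_hom_id_assoc]
  have hf : f = l.hom ≫ g ≫ r.inv := by
    rw [← Category.assoc, h, Category.assoc, Iso.hom_inv_id, Category.comp_id]
  constructor
  · intro _
    rw [hg]
    infer_instance
  · intro _
    rw [hf]
    infer_instance

end Sq

section Gen

variable {𝒜 : Type u} [Category.{v} 𝒜] [Abelian 𝒜] (T : 𝒜 ⥤ 𝒜 ⥤ 𝒜)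
  [∀ M, (T.obj M).Additive] [∀ M, PreservesFiniteColimits (T.obj M)]
  (E : CochainComplex 𝒜 ℤ)

/-- `M ↦ T(M, E)` (termwise) -/
noncomputable def tLeftCx : 𝒜 ⥤ CochainComplex 𝒜 ℤ where
  obj M := ((T.obj M).mapHomologicalComplex (ComplexShape.up ℤ)).obj E
  map f := (NatTrans.mapHomologicalComplex (T.map f) (ComplexShape.up ℤ)).app E
  map_id M := by
    ext n
    simp
  map_comp f g := by
    ext n
    simp

lemma tLeftCx_map_f {M M' : 𝒜} (f : M ⟶ M') (n : ℤ) :
    ((tLeftCx T E).map f).f n = (T.map f).app (E.X n) := rfl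

lemma tLeftCx_obj_d (M : 𝒜) (i j : ℤ) :
    ((tLeftCx T E).obj M).d i j = (T.obj M).map (E.d i j) := rfl

variable (p : ℤ)

/-- `T(M, E^{p+1}) → T(M, coker(d^p))` is a cokernel of `T(M, d^p)` -/
noncomputable def cokM (M : 𝒜) :
    IsColimit (CokernelCofork.ofπ (f := (T.obj M).map (E.d p (p + 1)))
      ((T.obj M).map (cokernel.π (E.d p (p + 1)))) (by
        rw [← CategoryTheory.Functor.map_comp, cokernel.condition,
          CategoryTheory.Functor.map_zero])) :=
  CokernelCofork.mapIsColimit _ (cokernelIsCokernel (E.d p (p + 1))) (T.obj M)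

/-- `opcycles^{p+1}(T(M, E)) ≅ T(M, coker(d^p))` -/
noncomputable def θ (M : 𝒜) :
    ((tLeftCx T E).obj M).opcycles (p + 1) ≅ (T.obj M).obj (cokernel (E.d p (p + 1))) :=
  (((tLeftCx T E).obj M).opcyclesIsCokernel p (p + 1) (by simp)).coconePointUniqueUpToIso
    (cokM T E p M)

lemma p_θ_hom (M : 𝒜) :
    ((tLeftCx T E).obj M).pOpcycles (p + 1) ≫ (θ T E p M).hom =
      (T.obj M).map (cokernel.π (E.d p (p + 1))) :=
  IsColimit.comp_coconePointUniqueUpToIso_hom
    (((tLeftCx T E).obj M).opcyclesIsCokernel p (p + 1) (by simp)) (cokM T E p M)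
    WalkingParallelPair.one

lemma θ_naturality {M' M : 𝒜} (f : M' ⟶ M) :
    opcyclesMap ((tLeftCx T E).map f) (p + 1) ≫ (θ T E p M).hom =
      (θ T E p M').hom ≫ (T.map f).app (cokernel (E.d p (p + 1))) := by
  rw [← cancel_epi (((tLeftCx T E).obj M').pOpcycles (p + 1)), p_opcyclesMap_assoc, p_θ_hom,
    ← Category.assoc, p_θ_hom, tLeftCx_map_f]
  exact ((T.map f).naturality (cokernel.π (E.d p (p + 1)))).symm

lemma mono_opcyclesMap_iff {M' M : 𝒜} (f : M' ⟶ M) :
    Mono (opcyclesMap ((tLeftCx T E).map f) (p + 1)) ↔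
      Mono ((T.map f).app (cokernel (E.d p (p + 1)))) :=
  mono_iff_of_sq _ _ (θ T E p M') (θ T E p M) (θ_naturality T E p f).symm

/-- **(A)** if `T(f, coker d^p)` is a monomorphism, so is `H^{p+1}(T(f, E))` -/
theorem mono_homologyMap_of_mono_coker {M' M : 𝒜} (f : M' ⟶ M)
    (h1 : Mono ((T.map f).app (cokernel (E.d p (p + 1))))) :
    Mono (homologyMap ((tLeftCx T E).map f) (p + 1)) := by
  haveI h2 : Mono (opcyclesMap ((tLeftCx T E).map f) (p + 1)) :=
    (mono_opcyclesMap_iff T E p f).2 h1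
  have hnat := homologyι_naturality ((tLeftCx T E).map f) (p + 1)
  haveI : Mono (homologyMap ((tLeftCx T E).map f) (p + 1) ≫
      ((tLeftCx T E).obj M).homologyι (p + 1)) := by
    rw [hnat]
    exact mono_comp _ _
  exact mono_of_mono _ (((tLeftCx T E).obj M).homologyι (p + 1))

/-- **(B)** if `H^{p+1}(T(f, E))` and `T(f, E^{p+2})` are monomorphisms, so is
`T(f, coker d^p)` -/
theorem mono_coker_of_mono_homologyMap {M' M : 𝒜} (f : M' ⟶ M)
    (h1 : Mono (homologyMap ((tLeftCx T E).map f) (p + 1)))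
    (h2 : Mono ((T.map f).app (E.X (p + 1 + 1)))) :
    Mono ((T.map f).app (cokernel (E.d p (p + 1)))) :=
  (mono_opcyclesMap_iff T E p f).1
    (mono_opcyclesMap ((tLeftCx T E).map f) (p + 1) (p + 1 + 1) rfl h1 h2)

end Gen

end Groth.Agent.Lib.Helper5.RingCBC
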