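import Mathlib
import Groth.Prelude.Def_DRing4
import Groth.Agent.Lib.Helper5.RingCBC.GenCoker
import Groth.Agent.Lib.Helper5.KSix.LTCx
import Groth.Agent.Lib.Helper5.LTen.DerQ
import Groth.Agent.Lib.Helper5.ExactPQ.SingleL
import Groth.Agent.Lib.Helper5.KFlat.Qis

/-!
# `H^j(M ⊗^L E) = H^j(M ⊗ E)` for a K-flat complex `E` of modules over a ring (helper5)
-/
set_option autoImplicit false
set_option linter.unusedSectionVars false
set_option linter.unusedVariables false
set_option linter.style.haveILetI false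
universe u
open CategoryTheory CategoryTheory.Limits MonoidalCategory HomologicalComplex
attribute [local instance] HasDerivedCategory.standard

namespace Groth.Agent.Lib.Helper5.RingCBC

open Groth.Agent.Lib.Helper5.DerQ Groth.Agent.Lib.Helper5.ExactPQ
  Groth.Agent.Lib.Helper5.KFlat Groth.Agent.Lib.Helper5.DTenLib Groth.Agent.Lib.Helper5.KSixLT

variable (A : Type u) [CommRing A] (E : DRing.Cx A)

/-- the tensor bifunctor of modules -/
abbrev TA : ModuleCat.{u} A ⥤ ModuleCat.{u} A ⥤ ModuleCat.{u} A := curriedTensor (ModuleCat.{u} A)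

instance (M : ModuleCat.{u} A) : PreservesFiniteColimits ((TA A).obj M) :=
  inferInstanceAs (PreservesFiniteColimits (tensorLeft M))

/-- every complex is adapted to `- ⊗ E` when `E` is K-flat -/
theorem adaptedQ_all (hK : DRing.IsKFlat A E) :
    AdaptedQ (DRing.tensorCxQ A E) (fun _ : DRing.Cx A => True) where
  htpy f g hfg := by
    rw [tensorCxQ_map_eq, tensorCxQ_map_eq]
    have H : Homotopy (f ▷ E) (g ▷ E) :=
      HomologicalComplex.mapBifunctorMapHomotopy₁ hfg (𝟙 E) (curriedTensor (ModuleCat.{u} A))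
        (ComplexShape.up ℤ)
    exact Q_map_eq_of_homotopy H
  res K := ⟨K, 𝟙 K, trivial, inferInstance⟩
  inv f _ _ hf := by
    rw [tensorCxQ_map_eq]
    haveI : QuasiIso (f ▷ E) := quasiIso_whiskerRight hK f hf
    infer_instance

variable [DRing.HasLTensorCx A E]

/-- transport of injectivity and surjectivity from the derived functor to the chain level -/
theorem mono_epi_iff_chain (hK : DRing.IsKFlat A E) {M' M : ModuleCat.{u} A} (f : M' ⟶ M)
    (j : ℤ) :
    (Mono ((DerivedCategory.homologyFunctor (ModuleCat.{u} A) j).map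
      ((DRing.LTensorCx A E).map ((DerivedCategory.singleFunctor (ModuleCat.{u} A) 0).map f))) ↔
      Mono (homologyMap ((tLeftCx (TA A) E).map f) j)) ∧
    (Epi ((DerivedCategory.homologyFunctor (ModuleCat.{u} A) j).map
      ((DRing.LTensorCx A E).map ((DerivedCategory.singleFunctor (ModuleCat.{u} A) 0).map f))) ↔
      Epi (homologyMap ((tLeftCx (TA A) E).map f) j)) := by
  let H := DerivedCategory.homologyFunctor (ModuleCat.{u} A) j
  let Φ := DRing.LTensorCx A E
  let s := HomologicalComplex.single (ModuleCat.{u} A) (ComplexShape.up ℤ) 0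
  let σ := DerivedCategory.singleFunctorIsoCompQ (ModuleCat.{u} A) 0
  let α := counit A E
  have hα : ∀ K, IsIso (α.app K) := fun K =>
    isIso_counit_app (adaptedQ_all A E hK) (DRing.LTensorCx A E) α K trivial
  -- step 1
  have c1 : (H.mapIso (Φ.mapIso (σ.app M'))).hom ≫
      H.map (Φ.map (DerivedCategory.Q.map (s.map f))) =
      H.map (Φ.map ((DerivedCategory.singleFunctor (ModuleCat.{u} A) 0).map f)) ≫
        (H.mapIso (Φ.mapIso (σ.app M))).hom := by
    have hn := σ.hom.naturality f
    have h2 := congrArg (fun t => H.map (Φ.map t)) hn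
    simp only [Functor.map_comp] at h2
    exact h2.symm
  -- step 2
  haveI := hα (s.obj M')
  haveI := hα (s.obj M)
  have c2 : (H.mapIso (asIso (α.app (s.obj M')))).hom ≫
      H.map (DerivedCategory.Q.map ((s.map f) ▷ E)) =
      H.map (Φ.map (DerivedCategory.Q.map (s.map f))) ≫
        (H.mapIso (asIso (α.app (s.obj M)))).hom := by
    have hn := α.naturality (s.map f)
    have h2 := congrArg (fun t => H.map t) hn
    simp only [Functor.map_comp] at h2
    exact h2.symm
  -- step 3
  let iM' : (tLeftCx (TA A) E).obj M' ≅ (s.obj M') ⊗ E := singleLeftIso (TA A) M' E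
  let iM : (tLeftCx (TA A) E).obj M ≅ (s.obj M) ⊗ E := singleLeftIso (TA A) M E
  have hn : iM'.hom ≫ ((s.map f) ▷ E) = (tLeftCx (TA A) E).map f ≫ iM.hom :=
    singleLeftIso_naturality (TA A) f E
  have hn' : iM'.inv ≫ (tLeftCx (TA A) E).map f = ((s.map f) ▷ E) ≫ iM.inv :=
    (Iso.inv_comp_eq iM').2 (((Iso.eq_comp_inv iM).2 hn.symm).trans (Category.assoc _ _ _))
  have c3 : (H.mapIso (DerivedCategory.Q.mapIso iM'.symm)).hom ≫
      H.map (DerivedCategory.Q.map ((tLeftCx (TA A) E).map f)) =
      H.map (DerivedCategory.Q.map ((s.map f) ▷ E)) ≫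
        (H.mapIso (DerivedCategory.Q.mapIso iM.symm)).hom := by
    show H.map (DerivedCategory.Q.map iM'.inv) ≫
        H.map (DerivedCategory.Q.map ((tLeftCx (TA A) E).map f)) =
      H.map (DerivedCategory.Q.map ((s.map f) ▷ E)) ≫
        H.map (DerivedCategory.Q.map iM.inv)
    rw [← H.map_comp, ← H.map_comp, ← DerivedCategory.Q.map_comp, ← DerivedCategory.Q.map_comp, hn']
  -- step 4
  have c4 : ((DerivedCategory.homologyFunctorFactors (ModuleCat.{u} A) j).app
        ((tLeftCx (TA A) E).obj M')).hom ≫ homologyMap ((tLeftCx (TA A) E).map f) j =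
      H.map (DerivedCategory.Q.map ((tLeftCx (TA A) E).map f)) ≫
        ((DerivedCategory.homologyFunctorFactors (ModuleCat.{u} A) j).app
          ((tLeftCx (TA A) E).obj M)).hom :=
    ((DerivedCategory.homologyFunctorFactors (ModuleCat.{u} A) j).hom.naturality
      ((tLeftCx (TA A) E).map f)).symm
  exact ⟨(mono_iff_of_sq _ _ _ _ c1).trans ((mono_iff_of_sq _ _ _ _ c2).trans
      ((mono_iff_of_sq _ _ _ _ c3).trans (mono_iff_of_sq _ _ _ _ c4))),
    (epi_iff_of_sq _ _ _ _ c1).trans ((epi_iff_of_sq _ _ _ _ c2).trans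
      ((epi_iff_of_sq _ _ _ _ c3).trans (epi_iff_of_sq _ _ _ _ c4)))⟩

end Groth.Agent.Lib.Helper5.RingCBC
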