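import Mathlib
import Groth.Prelude.Def_DRing4
import Groth.Agent.Lib.Helper5.KSix.LTCx
import Groth.Agent.Lib.Helper5.Gen.LTModel
import Groth.Agent.Lib.Helper5.KFlat.Symm
import Groth.Agent.Lib.Helper5.KFlat.Res

/-!
# The derived tensor product functor over a ring depends only on the class of the complex in
`D(A)` (helper5)
-/
set_option autoImplicit false
set_option linter.unusedSectionVars false
set_option linter.unusedVariables false
set_option linter.style.haveILetI false
universe u
open CategoryTheory CategoryTheory.Limits MonoidalCategory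
attribute [local instance] HasDerivedCategory.standard

namespace Groth.Agent.Lib.Helper5.RingCBC

open Groth.Agent.Lib.Helper5.KProj Groth.Agent.Lib.Helper5.KFlat Groth.Agent.Lib.Helper5.DTenLib
  Groth.Agent.Lib.Helper5.KSixLT

variable {A : Type u} [CommRing A] {K K' : DRing.Cx A}

/-- the transformation `- ⊗ K ⟶ - ⊗ K'` induced by a morphism of complexes -/
noncomputable def tenMap (q : K ⟶ K') : DRing.tensorCxQ A K ⟶ DRing.tensorCxQ A K' where
  app X := DerivedCategory.Q.map (X ◁ q)
  naturality X Y f := by
    show DerivedCategory.Q.map (f ▷ K) ≫ DerivedCategory.Q.map (Y ◁ q) =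
      DerivedCategory.Q.map (X ◁ q) ≫ DerivedCategory.Q.map (f ▷ K')
    rw [← Functor.map_comp, ← Functor.map_comp, whisker_exchange]

lemma tenMap_app (q : K ⟶ K') (N : DRing.Cx A) :
    (tenMap q).app N = DerivedCategory.Q.map (N ◁ q) := rfl

variable [DRing.HasLTensorCx A K] [DRing.HasLTensorCx A K']

/-- the induced transformation of derived tensor products -/
noncomputable def ltenMap (q : K ⟶ K') : DRing.LTensorCx A K ⟶ DRing.LTensorCx A K' :=
  Functor.leftDerivedNatTrans (DRing.LTensorCx A K) (DRing.LTensorCx A K') (counit A K)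
    (counit A K') (W A) (tenMap q)

theorem isIso_ltenMap (q : K ⟶ K') (hq : QuasiIso q) : IsIso (ltenMap q) := by
  haveI : ∀ M : Dual.D A, IsIso ((ltenMap q).app M) := by
    intro M
    let K₀ : DRing.Cx A := DerivedCategory.Q.objPreimage M
    let e : DerivedCategory.Q.obj K₀ ≅ M := DerivedCategory.Q.objObjPreimageIso M
    let P : DRing.Cx A := res K₀
    let e' : DerivedCategory.Q.obj P ≅ M := asIso (DerivedCategory.Q.map (resMap K₀)) ≪≫ e
    rw [← NatTrans.isIso_app_iff_of_iso (ltenMap q) e']
    have h4 : (ltenMap q).app (DerivedCategory.Q.obj P) ≫ (counit A K').app P =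
        (counit A K).app P ≫ (tenMap q).app P :=
      Functor.leftDerivedNatTrans_app _ _ _ _ _ _ _
    have h6 : IsIso ((counit A K').app P) := isIso_counit_app A K' P
    haveI h7 : IsIso ((counit A K).app P) := isIso_counit_app A K P
    haveI h8 : IsIso ((tenMap q).app P) := by
      rw [tenMap_app]
      haveI : QuasiIso (P ◁ q) := quasiIso_whiskerLeft (isKFlat_res K₀) q hq
      infer_instance
    have h5 : IsIso ((ltenMap q).app (DerivedCategory.Q.obj P) ≫ (counit A K').app P) := by
      rw [h4]; infer_instance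
    exact @IsIso.of_isIso_comp_right _ _ _ _ _ _ _ h6 h5
  exact NatIso.isIso_of_isIso_app _

/-- a quasi-isomorphism `K ⟶ K'` induces an isomorphism `- ⊗^L K ≅ - ⊗^L K'` -/
noncomputable def ltensorIsoOfQuasiIso (q : K ⟶ K') (hq : QuasiIso q) :
    DRing.LTensorCx A K ≅ DRing.LTensorCx A K' :=
  haveI := isIso_ltenMap q hq
  asIso (ltenMap q)

/-- **complexes isomorphic in `D(A)` have isomorphic derived tensor product functors** -/
theorem nonempty_ltensor_iso_of_iso
    (e : DerivedCategory.Q.obj K ≅ DerivedCategory.Q.obj K') :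
    Nonempty (DRing.LTensorCx A K ≅ DRing.LTensorCx A K') := by
  obtain ⟨K'', s, hs, g, hfac⟩ := DerivedCategory.right_fac e.hom
  haveI : DRing.HasLTensorCx A K'' := _root_.Helper5.Gen.hasLTensorCx K''
  have hs' : QuasiIso s := (DerivedCategory.isIso_Q_map_iff_quasiIso _ _).1 hs
  have hg : IsIso (DerivedCategory.Q.map g) := by
    have h1 : DerivedCategory.Q.map g = DerivedCategory.Q.map s ≫ e.hom := by
      rw [hfac, IsIso.hom_inv_id_assoc]
    rw [h1]
    infer_instance
  have hg' : QuasiIso g := (DerivedCategory.isIso_Q_map_iff_quasiIso _ _).1 hg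
  exact ⟨(ltensorIsoOfQuasiIso s hs').symm ≪≫ ltensorIsoOfQuasiIso g hg'⟩

end Groth.Agent.Lib.Helper5.RingCBC
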