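import Mathlib
import Groth.Prelude.Def_DRing4
import Groth.Agent.Lib.Helper5.RingCBC.Chain
import Groth.Agent.Lib.Helper5.RingCBC.LTenCongrR
import Groth.Agent.Lib.Helper5.CBC.CokerCmp
import Groth.Agent.Lib.Helper5.TorAmp.Rep
import Groth.Agent.Lib.Helper5.KFlat.Bdd
import Groth.Agent.Lib.Helper5.KFlat.Basic

/-!
# A mapping-cone model, over a ring, of a complex approximated by a bounded above complex of flat
modules (helper5)
-/
set_option autoImplicit false
set_option linter.unusedSectionVars false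
set_option linter.unusedVariables false
set_option linter.style.haveILetI false
universe u
open CategoryTheory CategoryTheory.Limits MonoidalCategory Pretriangulated
attribute [local instance] HasDerivedCategory.standard

namespace Groth.Agent.Lib.Helper5.RingCBC

open Groth.Agent.Lib.Helper5.KProj Groth.Agent.Lib.Helper5.KFlat Groth.Agent.Lib.Helper5.DTenLib
  Groth.Agent.Lib.Helper5.KSixLT Groth.Agent.Helper5.TorAmp Groth.Agent.Lib.Helper5.CBC

section General

variable {𝒜 : Type*} [Category 𝒜] [Abelian 𝒜] [HasDerivedCategory 𝒜]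

/-- the cone of a map which is an isomorphism on `H^i` for `i > q` and an epimorphism on `H^q` has
no cohomology in degrees `≥ q` -/
theorem isZero_H_cone {X Y C : DerivedCategory 𝒜} (α : X ⟶ Y) (β : Y ⟶ C)
    (γ : C ⟶ X⟦(1 : ℤ)⟧) (hT : Triangle.mk α β γ ∈ distTriang (DerivedCategory 𝒜)) (q : ℤ)
    (h1 : ∀ i : ℤ, q < i → IsIso ((DerivedCategory.homologyFunctor 𝒜 i).map α))
    (h2 : Epi ((DerivedCategory.homologyFunctor 𝒜 q).map α)) (i : ℤ) (hi : q ≤ i) :
    IsZero ((DerivedCategory.homologyFunctor 𝒜 i).obj C) := by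
  have h1' : Epi ((DerivedCategory.homologyFunctor 𝒜 i).map α) := by
    rcases hi.eq_or_lt with rfl | hlt
    · exact h2
    · haveI := h1 i hlt
      infer_instance
  haveI h2' : IsIso ((DerivedCategory.homologyFunctor 𝒜 (i + 1)).map α) := h1 (i + 1) (by omega)
  have h3 : (DerivedCategory.homologyFunctor 𝒜 i).map β = 0 :=
    (DerivedCategory.HomologySequence.epi_homologyMap_mor₁_iff _ hT i).1 h1'
  have h4 : DerivedCategory.HomologySequence.δ (Triangle.mk α β γ) i (i + 1) rfl = 0 :=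
    (DerivedCategory.HomologySequence.mono_homologyMap_mor₁_iff _ hT i (i + 1) rfl).1
      (inferInstanceAs (Mono ((DerivedCategory.homologyFunctor 𝒜 (i + 1)).map α)))
  exact (DerivedCategory.HomologySequence.exact₃ _ hT i (i + 1) rfl).isZero_of_both_zeros h3 h4

end General

variable {A : Type u} [CommRing A]

/-- the terms of a mapping cone of complexes with flat terms are flat -/
theorem flat_cone_X {K P : DRing.Cx A} (g : K ⟶ P) (hK : ∀ n, Module.Flat A (K.X n))
    (hP : ∀ n, Module.Flat A (P.X n)) (n : ℤ) :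
    Module.Flat A ((CochainComplex.mappingCone g).X n) := by
  let σ := CochainComplex.mappingCone.triangleRotateShortComplexSplitting g n
  haveI h1 : Module.Flat A (P.X n) := hP n
  haveI h3 : Module.Flat A (K.X (n + 1)) := hK (n + 1)
  have h : Module.Flat A (P.X n × K.X (n + 1)) := Groth.Agent.Helper5.FlatAcyc.flat_prod _ _
  let e : (CochainComplex.mappingCone g).X n ≅ ModuleCat.of A (P.X n × K.X (n + 1)) :=
    σ.isoBinaryBiproduct ≪≫ ModuleCat.biprodIsoProd _ _
  exact Module.Flat.of_linearEquiv e.toLinearEquiv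

/-- **the cone model** -/
theorem exists_cone_model (P : DRing.Cx A) (B : Dual.D A) (q : ℤ)
    (α : DerivedCategory.Q.obj P ⟶ B)
    (h1 : ∀ i : ℤ, q < i → IsIso ((DerivedCategory.homologyFunctor (ModuleCat.{u} A) i).map α))
    (h2 : Epi ((DerivedCategory.homologyFunctor (ModuleCat.{u} A) q).map α)) :
    ∃ (K : DRing.Cx A) (g : K ⟶ P), (∀ j : ℤ, q < j → IsZero (K.X j)) ∧
      (∀ i, Projective (K.X i)) ∧
      Nonempty (DerivedCategory.Q.obj (CochainComplex.mappingCone g) ≅ B) := by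
  obtain ⟨C, β, γ, hT⟩ := distinguished_cocone_triangle α
  have hC : ∀ i : ℤ, q ≤ i → IsZero ((DerivedCategory.homologyFunctor (ModuleCat.{u} A) i).obj C) :=
    fun i hi => isZero_H_cone α β γ hT q h1 h2 i hi
  haveI hCle : C.IsLE (q - 1) :=
    (DerivedCategory.isLE_iff C (q - 1)).2 (fun i hi => hC i (by omega))
  haveI hC1 : (C⟦(-1 : ℤ)⟧).IsLE q :=
    DerivedCategory.TStructure.t.isLE_shift C (q - 1) (-1) q (by omega)
  obtain ⟨K, hKb, hKp, hKK, ⟨e₀⟩⟩ := exists_proj_rep (C⟦(-1 : ℤ)⟧) q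
  let T := Triangle.mk α β γ
  have hT' : T.invRotate ∈ distTriang (Dual.D A) := inv_rot_of_distTriang _ hT
  let δ : DerivedCategory.Q.obj K ⟶ DerivedCategory.Q.obj P := e₀.hom ≫ T.invRotate.mor₁
  haveI := hKK
  obtain ⟨g, hg⟩ := exists_Q_map_eq K P δ
  have hcone := DerivedCategory.mappingCone_triangle_distinguished g
  let e₁ : DerivedCategory.Q.obj K ≅ T.invRotate.obj₁ := e₀
  have comm : (DerivedCategory.Q.mapTriangle.obj (CochainComplex.mappingCone.triangle g)).mor₁ ≫
      (Iso.refl (DerivedCategory.Q.obj P)).hom = e₁.hom ≫ T.invRotate.mor₁ := by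
    show DerivedCategory.Q.map g ≫ 𝟙 _ = δ
    rw [Category.comp_id, hg]
  let eT := isoTriangleOfIso₁₂ _ _ hcone hT' e₁ (Iso.refl _) comm
  exact ⟨K, g, hKb, hKp, ⟨Triangle.π₃.mapIso eT⟩⟩

/-- **the flat model**: a K-flat complex with flat terms, isomorphic to `E` in `D(A)`, with the same
cokernel in degrees `(q, q + 1)` as the approximating complex `P` -/
theorem exists_flat_model (E P : DRing.Cx A) (hPfl : ∀ n, Module.Flat A (P.X n)) (b : ℤ)
    (hPb : ∀ i : ℤ, b < i → IsZero (P.X i)) (q : ℤ)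
    (α : DerivedCategory.Q.obj P ⟶ DerivedCategory.Q.obj E)
    (h1 : ∀ i : ℤ, q < i → IsIso ((DerivedCategory.homologyFunctor (ModuleCat.{u} A) i).map α))
    (h2 : Epi ((DerivedCategory.homologyFunctor (ModuleCat.{u} A) q).map α)) :
    ∃ E' : DRing.Cx A, DRing.IsKFlat A E' ∧ (∀ n, Module.Flat A (E'.X n)) ∧
      Nonempty (DerivedCategory.Q.obj E' ≅ DerivedCategory.Q.obj E) ∧
      Nonempty (cokernel (P.d q (q + 1)) ≅ cokernel (E'.d q (q + 1))) := by
  obtain ⟨K, g, hKb, hKp, ⟨e⟩⟩ := exists_cone_model P (DerivedCategory.Q.obj E) q α h1 h2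
  have hKfl : ∀ n, Module.Flat A (K.X n) := termwiseFlat_of_projective K hKp
  have hKK : DRing.IsKFlat A K := isKFlat_of_bounded_above K q hKb hKfl
  have hPK : DRing.IsKFlat A P := isKFlat_of_bounded_above P b hPb hPfl
  refine ⟨CochainComplex.mappingCone g, (isKFlat_cone_two_of_three g).1 hKK hPK,
    flat_cone_X g hKfl hPfl, ⟨e⟩, ⟨cokerIsoHigh g q (hKb _ (by omega)) (hKb _ (by omega))⟩⟩

end Groth.Agent.Lib.Helper5.RingCBC
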