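import Mathlib
import Groth.Prelude.Def_DRing4
import Groth.Agent.Lib.Helper5.RingCBC.ConeModelR

/-!
# Exactness of `M ↦ H^j(M ⊗^L E)` over a ring forces flatness of the cokernels of an approximating
complex (helper5)
-/
set_option autoImplicit false
set_option linter.unusedSectionVars false
set_option linter.unusedVariables false
set_option linter.style.haveILetI false
universe u
open CategoryTheory CategoryTheory.Limits MonoidalCategory HomologicalComplex
attribute [local instance] HasDerivedCategory.standard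

namespace Groth.Agent.Lib.Helper5.RingCBC

open Groth.Agent.Lib.Helper5.KProj Groth.Agent.Lib.Helper5.KFlat Groth.Agent.Lib.Helper5.DTenLib
  Groth.Agent.Lib.Helper5.KSixLT Groth.Agent.Helper5.TorAmp Groth.Agent.Lib.Helper5.CBC
  Groth.Agent.Lib.Helper5.ExactPQ

variable {A : Type u} [CommRing A]

/-- flatness from preservation of monomorphisms -/
theorem flat_of_forall_mono (W : ModuleCat.{u} A)
    (h : ∀ {M' M : ModuleCat.{u} A} (a : M' ⟶ M), Mono a → Mono (a ▷ W)) : Module.Flat A W := by
  rw [Module.Flat.iff_rTensor_preserves_injective_linearMap]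
  intro N N' _ _ _ _ a ha
  let a' : ModuleCat.of A N ⟶ ModuleCat.of A N' := ModuleCat.ofHom a
  have hm : Mono a' := (ModuleCat.mono_iff_injective a').2 ha
  have h4 : Mono (a' ▷ W) := h a' hm
  exact (ModuleCat.mono_iff_injective _).1 h4

/-- tensoring with a flat module on the right preserves monomorphisms -/
theorem mono_whiskerRight_of_flat (X : ModuleCat.{u} A) [Module.Flat A X] {M' M : ModuleCat.{u} A}
    (a : M' ⟶ M) (ha : Mono a) : Mono (a ▷ X) := by
  rw [ModuleCat.mono_iff_injective]
  change Function.Injective (a ▷ X).hom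
  rw [ModuleCat.hom_whiskerRight]
  exact Module.Flat.rTensor_preserves_injective_linearMap _ ((ModuleCat.mono_iff_injective a).1 ha)

/-- tensoring a short exact sequence with a flat module on the right -/
theorem shortExact_whiskerRight (X : ModuleCat.{u} A) [Module.Flat A X]
    (S : ShortComplex (ModuleCat.{u} A)) (hS : S.ShortExact) :
    (ShortComplex.mk (S.f ▷ X) (S.g ▷ X)
      (by rw [← MonoidalCategory.comp_whiskerRight, S.zero,
        MonoidalPreadditive.zero_whiskerRight])).ShortExact := by
  have hf : Function.Injective S.f.hom := (ModuleCat.mono_iff_injective _).1 hS.mono_f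
  have hg : Function.Surjective S.g.hom := (ModuleCat.epi_iff_surjective _).1 hS.epi_g
  have hex : Function.Exact S.f.hom S.g.hom :=
    (ShortComplex.ShortExact.moduleCat_exact_iff_function_exact S).1 hS.exact
  refine { exact := ?_, mono_f := ?_, epi_g := ?_ }
  · rw [ShortComplex.ShortExact.moduleCat_exact_iff_function_exact]
    change Function.Exact (S.f ▷ X).hom (S.g ▷ X).hom
    rw [ModuleCat.hom_whiskerRight, ModuleCat.hom_whiskerRight]
    exact rTensor_exact X hex hg
  · exact mono_whiskerRight_of_flat X S.f hS.mono_f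
  · rw [ModuleCat.epi_iff_surjective]
    change Function.Surjective (S.g ▷ X).hom
    rw [ModuleCat.hom_whiskerRight]
    exact LinearMap.rTensor_surjective X hg

lemma tLeftCx_map_zero (E : DRing.Cx A) (M M' : ModuleCat.{u} A) :
    (tLeftCx (TA A) E).map (0 : M ⟶ M') = 0 := by
  ext n : 1
  exact MonoidalPreadditive.zero_whiskerRight

/-- the short exact sequence of complexes `0 → M' ⊗ E → M ⊗ E → M'' ⊗ E → 0` -/
theorem shortExact_tLeftCx (E : DRing.Cx A) (hE : ∀ n, Module.Flat A (E.X n))
    (S : ShortComplex (ModuleCat.{u} A)) (hS : S.ShortExact) :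
    (ShortComplex.mk ((tLeftCx (TA A) E).map S.f) ((tLeftCx (TA A) E).map S.g)
      (by rw [← Functor.map_comp, S.zero, tLeftCx_map_zero])).ShortExact := by
  apply HomologicalComplex.shortExact_of_degreewise_shortExact
  intro i
  haveI := hE i
  exact shortExact_whiskerRight (E.X i) S hS

/-- surjectivity in degree `q` gives injectivity in degree `q + 1` -/
theorem mono_homologyMap_of_epi (E : DRing.Cx A) (hE : ∀ n, Module.Flat A (E.X n))
    (S : ShortComplex (ModuleCat.{u} A)) (hS : S.ShortExact) (q : ℤ)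
    (h : Epi (homologyMap ((tLeftCx (TA A) E).map S.g) q)) :
    Mono (homologyMap ((tLeftCx (TA A) E).map S.f) (q + 1)) := by
  have hS' := shortExact_tLeftCx E hE S hS
  have hδ : hS'.δ q (q + 1) rfl = 0 := by
    haveI := h
    have h0 := hS'.comp_δ q (q + 1) rfl
    rw [← cancel_epi (homologyMap ((tLeftCx (TA A) E).map S.g) q), comp_zero]
    exact h0
  exact (hS'.homology_exact₁ q (q + 1) rfl).mono_g hδ

variable (E P : DRing.Cx A) [DRing.HasLTensorCx A E]

/-- transport along an isomorphism of derived tensor product functors -/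
theorem mono_epi_iff_of_iso {E' : DRing.Cx A} [DRing.HasLTensorCx A E']
    (φ : DRing.LTensorCx A E' ≅ DRing.LTensorCx A E) (j : ℤ) {M' M : ModuleCat.{u} A}
    (a : M' ⟶ M) :
    (Mono ((DerivedCategory.homologyFunctor (ModuleCat.{u} A) j).map
      ((DRing.LTensorCx A E').map ((DerivedCategory.singleFunctor (ModuleCat.{u} A) 0).map a))) ↔
      Mono ((DerivedCategory.homologyFunctor (ModuleCat.{u} A) j).map
      ((DRing.LTensorCx A E).map ((DerivedCategory.singleFunctor (ModuleCat.{u} A) 0).map a)))) ∧
    (Epi ((DerivedCategory.homologyFunctor (ModuleCat.{u} A) j).map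
      ((DRing.LTensorCx A E').map ((DerivedCategory.singleFunctor (ModuleCat.{u} A) 0).map a))) ↔
      Epi ((DerivedCategory.homologyFunctor (ModuleCat.{u} A) j).map
      ((DRing.LTensorCx A E).map ((DerivedCategory.singleFunctor (ModuleCat.{u} A) 0).map a)))) := by
  have c : ((DerivedCategory.homologyFunctor (ModuleCat.{u} A) j).mapIso (φ.app _)).hom ≫
      (DerivedCategory.homologyFunctor (ModuleCat.{u} A) j).map
        ((DRing.LTensorCx A E).map ((DerivedCategory.singleFunctor (ModuleCat.{u} A) 0).map a)) =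
      (DerivedCategory.homologyFunctor (ModuleCat.{u} A) j).map
        ((DRing.LTensorCx A E').map ((DerivedCategory.singleFunctor (ModuleCat.{u} A) 0).map a)) ≫
      ((DerivedCategory.homologyFunctor (ModuleCat.{u} A) j).mapIso (φ.app _)).hom := by
    have hn := φ.hom.naturality ((DerivedCategory.singleFunctor (ModuleCat.{u} A) 0).map a)
    have h2 := congrArg (fun t => (DerivedCategory.homologyFunctor (ModuleCat.{u} A) j).map t) hn
    simp only [Functor.map_comp] at h2
    exact h2.symm
  exact ⟨mono_iff_of_sq _ _ _ _ c, epi_iff_of_sq _ _ _ _ c⟩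

variable (hPfl : ∀ n, Module.Flat A (P.X n)) (b : ℤ) (hPb : ∀ i : ℤ, b < i → IsZero (P.X i)) (q : ℤ)
  (α : DerivedCategory.Q.obj P ⟶ DerivedCategory.Q.obj E)
  (h1 : ∀ i : ℤ, q < i → IsIso ((DerivedCategory.homologyFunctor (ModuleCat.{u} A) i).map α))
  (h2 : Epi ((DerivedCategory.homologyFunctor (ModuleCat.{u} A) q).map α))

include hPfl hPb h1 h2 in
/-- **left exactness in degree `q + 1` forces flatness of `coker(P^q ⟶ P^{q+1})`** -/
theorem flat_cokernel_of_preservesFiniteLimits (j : ℤ) (hj : q + 1 = j)
    [PreservesFiniteLimits (DerivedCategory.singleFunctor (ModuleCat.{u} A) 0 ⋙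
      DRing.LTensorCx A E ⋙ DerivedCategory.homologyFunctor (ModuleCat.{u} A) j)] :
    Module.Flat A (cokernel (P.d q (q + 1)) : ModuleCat.{u} A) := by
  subst hj
  obtain ⟨E', hK, hfl, ⟨e⟩, ⟨c⟩⟩ := exists_flat_model E P hPfl b hPb q α h1 h2
  haveI : DRing.HasLTensorCx A E' := _root_.Helper5.Gen.hasLTensorCx E'
  obtain ⟨φ⟩ := nonempty_ltensor_iso_of_iso (K := E') (K' := E) e
  apply flat_of_iso c.symm
  apply flat_of_forall_mono
  intro M' M a ha
  haveI := ha
  have h3 : Mono ((DerivedCategory.singleFunctor (ModuleCat.{u} A) 0 ⋙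
      DRing.LTensorCx A E ⋙ DerivedCategory.homologyFunctor (ModuleCat.{u} A) (q + 1)).map a) :=
    inferInstance
  have h4 := ((mono_epi_iff_chain A E' hK a (q + 1)).1).1
    (((mono_epi_iff_of_iso E φ (q + 1) a).1).2 h3)
  haveI := hfl (q + 1 + 1)
  exact mono_coker_of_mono_homologyMap (TA A) E' q a h4
    (mono_whiskerRight_of_flat (E'.X (q + 1 + 1)) a ha)

include hPfl hPb h1 h2 in
/-- **right exactness in degree `q` forces flatness of `coker(P^q ⟶ P^{q+1})`** -/
theorem flat_cokernel_of_preservesFiniteColimits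
    [PreservesFiniteColimits (DerivedCategory.singleFunctor (ModuleCat.{u} A) 0 ⋙
      DRing.LTensorCx A E ⋙ DerivedCategory.homologyFunctor (ModuleCat.{u} A) q)] :
    Module.Flat A (cokernel (P.d q (q + 1)) : ModuleCat.{u} A) := by
  obtain ⟨E', hK, hfl, ⟨e⟩, ⟨c⟩⟩ := exists_flat_model E P hPfl b hPb q α h1 h2
  haveI : DRing.HasLTensorCx A E' := _root_.Helper5.Gen.hasLTensorCx E'
  obtain ⟨φ⟩ := nonempty_ltensor_iso_of_iso (K := E') (K' := E) e
  apply flat_of_iso c.symm
  apply flat_of_forall_mono
  intro M' M a ha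
  haveI := ha
  let S : ShortComplex (ModuleCat.{u} A) := ShortComplex.mk a (cokernel.π a) (cokernel.condition a)
  have hS : S.ShortExact :=
    { exact := ShortComplex.exact_cokernel a
      mono_f := ha
      epi_g := inferInstanceAs (Epi (cokernel.π a)) }
  haveI : Epi S.g := hS.epi_g
  have h3 : Epi ((DerivedCategory.singleFunctor (ModuleCat.{u} A) 0 ⋙
      DRing.LTensorCx A E ⋙ DerivedCategory.homologyFunctor (ModuleCat.{u} A) q).map S.g) :=
    inferInstance
  have h4 := ((mono_epi_iff_chain A E' hK S.g q).2).1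
    (((mono_epi_iff_of_iso E φ q S.g).2).2 h3)
  have h5 : Mono (homologyMap ((tLeftCx (TA A) E').map a) (q + 1)) :=
    mono_homologyMap_of_epi E' hfl S hS q h4
  haveI := hfl (q + 1 + 1)
  exact mono_coker_of_mono_homologyMap (TA A) E' q a h5
    (mono_whiskerRight_of_flat (E'.X (q + 1 + 1)) a ha)

end Groth.Agent.Lib.Helper5.RingCBC
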