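import Mathlib
import Groth.Agent.Lib.Helper5.FibPerf.StalkPC
import Groth.Agent.Lib.Helper5.KSix.PerfNhd
import Groth.Agent.Lib.Helper5.Perf.NearFLF
import Groth.Agent.Lib.Helper5.CBC.BettiFlat
import Groth.Agent.Lib.Helper5.Stalk.Pull
import Groth.Agent.Lib.Helper5.KFlat.Bdd

/-!
# Flatness of the cokernel of an approximating complex near a point, from flatness over the local
ring (helper5)
-/
set_option autoImplicit false
set_option linter.unusedSectionVars false
set_option linter.unusedVariables false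
set_option linter.style.haveILetI false
set_option maxHeartbeats 1600000
universe u
open CategoryTheory CategoryTheory.Limits MonoidalCategory AlgebraicGeometry
attribute [local instance] HasDerivedCategory.standard

namespace Groth.Agent.Lib.Helper5.RingCBC

open Groth.Agent.Lib.Helper5.StalkTot Groth.Agent.Lib.Helper5.StalkAdj
open Groth.Agent.Helper5.TorAmp Groth.Agent.Lib.Helper5.TensorAmp
open Groth.Agent.Lib.Helper5.KSixFlat Groth.Agent.Lib.Helper5.KFlatPull
open Groth.Agent.Lib.Helper5.KFlatStalk Groth.Agent.Lib.Helper5.LpullLib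
open Groth.Agent.Lib.Helper5.DerSchTor Groth.Agent.Lib.Helper5.PerfTri
open Groth.Agent.Lib.Helper5.StalkFree Groth.Agent.Lib.Helper5.LocusRing
open Groth.Agent.Lib.Helper5.PerfLocus Groth.Agent.Lib.Helper5.PCApprox
open Groth.Agent.Lib.Helper5.ExactHom Groth.Agent.Lib.Helper5.FpFlat
open Groth.Agent.Lib.Helper5.LocNull Groth.Agent.Lib.Helper5.CBC Groth.Agent.Lib.Helper5.NearFLF
open DTen

section ring

variable {A B : Type u} [CommRing A] [CommRing B] (ε : A →+* B)

/-- flatness descends along the restriction of scalars for a bijective ring map -/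
theorem flat_of_flat_restrictScalars_of_bijective (hε : Function.Bijective ε) (N : ModuleCat.{u} B)
    (h : Module.Flat A ((ModuleCat.restrictScalars.{u} ε).obj N)) : Module.Flat B N := by
  let adj := ModuleCat.extendRestrictScalarsAdj.{u, u, u} ε
  haveI h1 : IsIso (adj.unit.app ((ModuleCat.restrictScalars.{u} ε).obj N)) :=
    isIso_unit_of_bijective ε hε _
  have h2 : adj.unit.app ((ModuleCat.restrictScalars.{u} ε).obj N) ≫
      (ModuleCat.restrictScalars.{u} ε).map (adj.counit.app N) = 𝟙 _ :=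
    adj.right_triangle_components N
  haveI h3 : IsIso ((ModuleCat.restrictScalars.{u} ε).map (adj.counit.app N)) :=
    IsIso.of_isIso_fac_left h2
  haveI h4 : IsIso (adj.counit.app N) :=
    isIso_of_reflects_iso _ (ModuleCat.restrictScalars.{u} ε)
  haveI := h
  have h5 : Module.Flat B ((ModuleCat.extendScalars.{u, u, u} ε).obj
      ((ModuleCat.restrictScalars.{u} ε).obj N)) :=
    Groth.Agent.Lib.Helper5.StalkAdj.flat_extendScalars ε _
  exact Groth.Agent.Lib.Helper5.KFlat.flat_of_iso (asIso (adj.counit.app N)) h5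

end ring

section ApproxFlatQ

/-- approximations by strictly perfect complexes with a flat cokernel in degrees `(q, q + 1)` -/
def ApproxFlatQ (q : ℤ) {U : Scheme.{u}} (K : DCoh.D U) : Prop :=
  ∃ (P : CochainComplex U.Modules ℤ) (α : DerivedCategory.Q.obj P ⟶ K),
    DCoh.IsStrictlyPerfect P ∧ IsApprox q α ∧ FlatMod.IsFlat (cokernel (P.d q (q + 1)))

variable {q : ℤ} {U : Scheme.{u}}

theorem ApproxFlatQ.of_iso {K K' : DCoh.D U} (h : ApproxFlatQ q K) (e : K ≅ K') :
    ApproxFlatQ q K' := by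
  obtain ⟨P, α, hP, hα, h1⟩ := h
  exact ⟨P, α ≫ e.hom, hP, hα.comp_iso e, h1⟩

theorem ApproxFlatQ.restrict {K : DCoh.D U} (h : ApproxFlatQ q K) {U' : Scheme.{u}} (k : U' ⟶ U)
    [IsOpenImmersion k] : ApproxFlatQ q ((DCoh.restrictD k).obj K) := by
  obtain ⟨P, α, hP, hα, h1⟩ := h
  exact ⟨(RCx k).obj P,
    ((Scheme.Modules.restrictFunctor k).mapDerivedCategoryFactors.app P).inv ≫
      (DCoh.restrictD k).map α, isStrictlyPerfect_restrict k hP,
    (hα.restrict k).iso_comp
      ((Scheme.Modules.restrictFunctor k).mapDerivedCategoryFactors.app P).symm,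
    flat_cokernel_restrict k P _ _ h1⟩

/-- an approximation whose cokernel becomes flat after restriction -/
theorem approxFlatQ_restrict_of_flat {U' : Scheme.{u}} {K : DCoh.D U}
    (P : CochainComplex U.Modules ℤ) (α : DerivedCategory.Q.obj P ⟶ K)
    (hP : DCoh.IsStrictlyPerfect P) (hα : IsApprox q α) (k : U' ⟶ U) [IsOpenImmersion k]
    (h1 : FlatMod.IsFlat ((Scheme.Modules.restrictFunctor k).obj (cokernel (P.d q (q + 1))))) :
    ApproxFlatQ q ((DCoh.restrictD k).obj K) :=
  ⟨(RCx k).obj P,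
    ((Scheme.Modules.restrictFunctor k).mapDerivedCategoryFactors.app P).inv ≫
      (DCoh.restrictD k).map α, isStrictlyPerfect_restrict k hP,
    (hα.restrict k).iso_comp
      ((Scheme.Modules.restrictFunctor k).mapDerivedCategoryFactors.app P).symm,
    flatMod_of_iso (PreservesCokernel.iso (Scheme.Modules.restrictFunctor k) (P.d q (q + 1))) h1⟩

variable {X : Scheme.{u}}

theorem approxFlatQ_comp {U' : Scheme.{u}} (k : U' ⟶ U) (j : U ⟶ X)
    [IsOpenImmersion k] [IsOpenImmersion j] {K : DCoh.D X}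
    (h : ApproxFlatQ q ((DCoh.restrictD j).obj K)) :
    ApproxFlatQ q ((DCoh.restrictD (k ≫ j)).obj K) :=
  (h.restrict k).of_iso (restrictDCompObjIso k j K).symm

theorem approxFlatQ_congr {j j' : U ⟶ X} [IsOpenImmersion j]
    [IsOpenImmersion j'] (hj : j = j') {K : DCoh.D X}
    (h : ApproxFlatQ q ((DCoh.restrictD j).obj K)) : ApproxFlatQ q ((DCoh.restrictD j').obj K) := by
  subst hj
  exact h

theorem approxFlatQ_opensRange (j : U ⟶ X) [IsOpenImmersion j]
    {K : DCoh.D X} (h : ApproxFlatQ q ((DCoh.restrictD j).obj K)) :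
    ApproxFlatQ q ((DCoh.restrictD j.opensRange.ι).obj K) :=
  approxFlatQ_congr (Scheme.Hom.isoOpensRange_inv_comp j)
    (approxFlatQ_comp j.isoOpensRange.inv j h)

end ApproxFlatQ

section main

variable {X : Scheme.{u}}

/-- **spreading out**: if every approximation of the stalk complex `F_x` by a bounded above complex
of flat modules has a flat cokernel in degrees `(q, q + 1)`, then near `x` the complex `F` has an
approximation by a strictly perfect complex with flat cokernel in degrees `(q, q + 1)` -/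
theorem exists_approxFlatQ (F : CochainComplex X.Modules ℤ) (q : ℤ)
    (hE : DCoh.IsPseudoCoherentD q (DCoh.toD X F)) (x : X)
    (hfl : ∀ (P : DRing.Cx (X.presheaf.stalk x))
      (β : DerivedCategory.Q.obj P ⟶ DerivedCategory.Q.obj (stalkCx X x F)),
      (∀ n, Module.Flat (X.presheaf.stalk x) (P.X n)) → (∃ b : ℤ, ∀ i : ℤ, b < i → IsZero (P.X i)) →
      (∀ i : ℤ, q < i → IsIso ((DerivedCategory.homologyFunctor _ i).map β)) →
      Epi ((DerivedCategory.homologyFunctor _ q).map β) →
      Module.Flat (X.presheaf.stalk x)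
        (cokernel (P.d q (q + 1)) : ModuleCat.{u} (X.presheaf.stalk x))) :
    ∃ U : X.Opens, x ∈ U ∧ ApproxFlatQ q ((DCoh.restrictD U.ι).obj (DCoh.toD X F)) := by
  obtain ⟨V, hxV, K, α, hK, hα⟩ := exists_approx_of_isPC hE x
  let x' : (V : Scheme.{u}) := ⟨x, hxV⟩
  let G : CochainComplex (V : Scheme.{u}).Modules ℤ := (DCoh.restrictCx V).obj F
  let eV : (DCoh.restrictD V.ι).obj (DCoh.toD X F) ≅ DerivedCategory.Q.obj G :=
    (Scheme.Modules.restrictFunctor V.ι).mapDerivedCategoryFactors.app F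
  obtain ⟨γ, hγ⟩ : ∃ γ : DerivedCategory.Q.obj K ⟶ DerivedCategory.Q.obj G, γ = α ≫ eV.hom :=
    ⟨_, rfl⟩
  have hα' : IsApprox q γ := by
    rw [hγ]
    exact hα.comp_iso eV
  let ε : X.presheaf.stalk (V.ι.base x') →+* (V : Scheme.{u}).presheaf.stalk x' :=
    (V.ι.stalkMap x').hom
  have hbij : Function.Bijective ε :=
    (ConcreteCategory.isIso_iff_bijective _).1 inferInstance
  let R : (V : Scheme.{u}).Modules ⥤ ModuleCat.{u} (X.presheaf.stalk (V.ι.base x')) :=
    stalkSh (V : Scheme.{u}) x' ⋙ ModuleCat.restrictScalars.{u} ε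
  haveI := isIso_unitCx_of_bijective ε hbij (stalkCx X (V.ι.base x') F)
  let e3 : stalkCx X (V.ι.base x') F ≅ (resCx ε).obj
      (stalkCx (V : Scheme.{u}) x' ((DCoh.restrictCx V).obj F)) :=
    asIso ((unitCx ε).app (stalkCx X (V.ι.base x') F)) ≪≫
      (resCx ε).mapIso (stalkCxRestrictIso V x' F).symm
  let P₁ : DRing.Cx (X.presheaf.stalk (V.ι.base x')) :=
    (R.mapHomologicalComplex (ComplexShape.up ℤ)).obj K
  let β₁ : DerivedCategory.Q.obj P₁ ⟶ DerivedCategory.Q.obj (stalkCx X (V.ι.base x') F) :=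
    (R.mapDerivedCategoryFactors.app K).inv ≫ R.mapDerivedCategory.map γ ≫
      (R.mapDerivedCategoryFactors.app G).hom ≫ DerivedCategory.Q.map e3.inv
  obtain ⟨⟨a, b, hab⟩, hflf⟩ := hK
  have hflat : Module.Flat (X.presheaf.stalk (V.ι.base x'))
      (cokernel (P₁.d q (q + 1)) : ModuleCat.{u} (X.presheaf.stalk (V.ι.base x'))) := by
    have hfl' : ∀ (P : DRing.Cx (X.presheaf.stalk (V.ι.base x')))
        (β : DerivedCategory.Q.obj P ⟶ DerivedCategory.Q.obj (stalkCx X (V.ι.base x') F)),
        (∀ n, Module.Flat (X.presheaf.stalk (V.ι.base x')) (P.X n)) →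
        (∃ b : ℤ, ∀ i : ℤ, b < i → IsZero (P.X i)) →
        (∀ i : ℤ, q < i → IsIso ((DerivedCategory.homologyFunctor
          (ModuleCat.{u} (X.presheaf.stalk (V.ι.base x'))) i).map β)) →
        Epi ((DerivedCategory.homologyFunctor
          (ModuleCat.{u} (X.presheaf.stalk (V.ι.base x'))) q).map β) →
        Module.Flat (X.presheaf.stalk (V.ι.base x'))
          (cokernel (P.d q (q + 1)) : ModuleCat.{u} (X.presheaf.stalk (V.ι.base x'))) := hfl
    apply hfl' P₁ β₁
    · intro n
      have h1 := free_finite_stalk_of_isFinLocFree (K.X n) (hflf n) x'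
      have h2 := free_finite_restrictScalars_of_bijective ε hbij _ h1
      haveI := h2.1
      exact (inferInstance : Module.Flat (X.presheaf.stalk (V.ι.base x'))
        ((ModuleCat.restrictScalars.{u} ε).obj ((stalkSh (V : Scheme.{u}) x').obj (K.X n))))
    · exact ⟨b, fun i hi => Functor.map_isZero R (hab i (Or.inr hi))⟩
    · intro i hi
      haveI := isIso_homology_map (R := R) γ i (hα'.1 i hi)
      simp only [β₁, Functor.map_comp]
      infer_instance
    · haveI := epi_homology_map (R := R) γ q hα'.2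
      simp only [β₁, Functor.map_comp]
      infer_instance
  have hflat2 : Module.Flat (X.presheaf.stalk (V.ι.base x'))
      ((ModuleCat.restrictScalars.{u} ε).obj
        ((stalkSh (V : Scheme.{u}) x').obj (cokernel (K.d q (q + 1))))) :=
    Groth.Agent.Lib.Helper5.KFlat.flat_of_iso (PreservesCokernel.iso R (K.d q (q + 1))).symm hflat
  have hflat3 : FlatMod.IsFlatAt (cokernel (K.d q (q + 1))) x' :=
    flat_of_flat_restrictScalars_of_bijective ε hbij _ hflat2
  obtain ⟨W, -, hvW, hW⟩ := exists_flf_cokernel (K.d q (q + 1)) ⊤ x' trivial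
    (isFinLocFree_restrict _ _ (hflf _)) (isFinLocFree_restrict _ _ (hflf _)) hflat3
  have A1 : ApproxFlatQ q ((DCoh.restrictD W.ι).obj ((DCoh.restrictD V.ι).obj (DCoh.toD X F))) :=
    approxFlatQ_restrict_of_flat K α ⟨⟨a, b, hab⟩, hflf⟩ hα W.ι (flatMod_of_isFinLocFree _ hW)
  have A3 : ApproxFlatQ q ((DCoh.restrictD (W.ι ≫ V.ι)).obj (DCoh.toD X F)) :=
    A1.of_iso (restrictDCompObjIso W.ι V.ι (DCoh.toD X F)).symm
  refine ⟨(W.ι ≫ V.ι).opensRange, ?_, approxFlatQ_opensRange (W.ι ≫ V.ι) A3⟩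
  exact ⟨⟨x', hvW⟩, rfl⟩

end main

end Groth.Agent.Lib.Helper5.RingCBC
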