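import Mathlib
import Groth.Agent.Lib.Helper5.RingCBC.StalkFlat
import Groth.Agent.Lib.Helper5.RingCBC.MainR
import Groth.Agent.Lib.Helper5.CBC.MonoLocal
import Groth.Agent.Lib.Helper5.ExactPQ.Main
import Groth.Agent.Lib.Helper5.ProjF3.LTenWT

/-!
# Exactness of `M ↦ H^j(M ⊗^L F|_U)` near a point from exactness over the local ring (helper5)
-/
set_option autoImplicit false
set_option linter.unusedSectionVars false
set_option linter.unusedVariables false
set_option linter.style.haveILetI false
set_option maxHeartbeats 1600000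
universe u
open CategoryTheory CategoryTheory.Limits MonoidalCategory AlgebraicGeometry
attribute [local instance] HasDerivedCategory.standard

namespace Groth.Agent.Lib.Helper5.RingCBC

open Groth.Agent.Lib.Helper5.PCApprox Groth.Agent.Lib.Helper5.CBC Groth.Agent.Lib.Helper5.ExactPQ
  Groth.Agent.Lib.Helper5.ProjF3 Groth.Agent.Lib.Helper5.StalkTot Groth.Agent.Lib.Helper5.StalkAdj

variable {X : Scheme.{u}}

/-- preservation of monomorphisms in degree `q + 1` from an approximation with flat cokernel -/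
theorem mono_of_approxFlatQ (F : CochainComplex X.Modules ℤ) (q : ℤ) (U : X.Opens)
    (h : ApproxFlatQ q ((DCoh.restrictD U.ι).obj (DCoh.toD X F)))
    [DCoh.HasLTensorCx ((DCoh.restrictCx U).obj F)] {M' M : (U : Scheme.{u}).Modules}
    (f : M' ⟶ M) [Mono f] :
    Mono ((DerivedCategory.homologyFunctor (U : Scheme.{u}).Modules (q + 1)).map
      ((DCoh.LTensorCx ((DCoh.restrictCx U).obj F)).map
        ((DerivedCategory.singleFunctor (U : Scheme.{u}).Modules 0).map f))) := by
  obtain ⟨P, α₀, hP, hα₀, hf1⟩ := h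
  let FV : CochainComplex (U : Scheme.{u}).Modules ℤ := (DCoh.restrictCx U).obj F
  let ι : (DCoh.restrictD U.ι).obj (DerivedCategory.Q.obj F) ≅ DerivedCategory.Q.obj FV :=
    (Scheme.Modules.restrictFunctor U.ι).mapDerivedCategoryFactors.app F
  have hα : IsApprox q (α₀ ≫ ι.hom) := hα₀.comp_iso ι
  have hPfl : ∀ n, ModSite.IsFlat (O := (U : Scheme.{u}).sheaf) (P.X n) := fun n =>
    Groth.Agent.Lib.Helper5.Misc.StalkFlatSch.isFlat_of_flatMod _
      (Groth.Agent.Lib.Helper5.LTenDer.isFlat_of_isFinLocFree _ (hP.2 n))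
  obtain ⟨a, b, hab⟩ := hP.1
  have hPb : ∀ i : ℤ, b < i → IsZero (P.X i) := fun i hi => hab i (Or.inr hi)
  exact ((mono_ltensor_iff FV P hPfl b hPb q (α₀ ≫ ι.hom) hα f).1).2
    (mono_tensor_of_flat _ hf1 _)

/-- right exactness in degree `q` -/
theorem preservesFiniteColimits_of_approxFlatQ (F : CochainComplex X.Modules ℤ) (q : ℤ)
    (U : X.Opens) (h : ApproxFlatQ q ((DCoh.restrictD U.ι).obj (DCoh.toD X F)))
    [DCoh.HasLTensorCx ((DCoh.restrictCx U).obj F)] :
    PreservesFiniteColimits (DerivedCategory.singleFunctor (U : Scheme.{u}).Modules 0 ⋙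
      DCoh.LTensorCx ((DCoh.restrictCx U).obj F) ⋙
      DerivedCategory.homologyFunctor (U : Scheme.{u}).Modules q) := by
  refine (preservesFiniteColimits_iff_forall_mono (DCoh.LTensorCx ((DCoh.restrictCx U).obj F))
    (weakTri_LTensorCx ((DCoh.restrictCx U).obj F)) q).2 (fun S hS => ?_)
  haveI := hS.mono_f
  exact mono_of_approxFlatQ F q U h S.f

/-- left exactness in degree `q + 1` -/
theorem preservesFiniteLimits_of_approxFlatQ (F : CochainComplex X.Modules ℤ) (q : ℤ)
    (U : X.Opens) (h : ApproxFlatQ q ((DCoh.restrictD U.ι).obj (DCoh.toD X F)))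
    [DCoh.HasLTensorCx ((DCoh.restrictCx U).obj F)] :
    PreservesFiniteLimits (DerivedCategory.singleFunctor (U : Scheme.{u}).Modules 0 ⋙
      DCoh.LTensorCx ((DCoh.restrictCx U).obj F) ⋙
      DerivedCategory.homologyFunctor (U : Scheme.{u}).Modules (q + 1)) :=
  (preserves_iff_single (DCoh.LTensorCx ((DCoh.restrictCx U).obj F))
    (weakTri_LTensorCx ((DCoh.restrictCx U).obj F)) q).1
    (preservesFiniteColimits_of_approxFlatQ F q U h)

/-- the comparison of the two models of the complex of stalks -/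
noncomputable def stalkCxIso (F : CochainComplex X.Modules ℤ) (x : X) :
    ((DerSch.stalkFunctor X x).mapHomologicalComplex (ComplexShape.up ℤ)).obj F ≅
      stalkCx X x F :=
  (NatIso.mapHomologicalComplex (stalkFunctorIso X x) (ComplexShape.up ℤ)).app F

/-- transport of an approximation of `stalkCx X x F` to the other model of the stalk complex -/
theorem approx_transport (F : CochainComplex X.Modules ℤ) (x : X) (q : ℤ)
    (P : DRing.Cx (X.presheaf.stalk x))
    (β : DerivedCategory.Q.obj P ⟶ DerivedCategory.Q.obj (stalkCx X x F))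
    (h1 : ∀ i : ℤ, q < i → IsIso ((DerivedCategory.homologyFunctor _ i).map β))
    (h2 : Epi ((DerivedCategory.homologyFunctor _ q).map β)) :
    (∀ i : ℤ, q < i → IsIso ((DerivedCategory.homologyFunctor _ i).map
      (β ≫ DerivedCategory.Q.map (stalkCxIso F x).inv))) ∧
    Epi ((DerivedCategory.homologyFunctor _ q).map
      (β ≫ DerivedCategory.Q.map (stalkCxIso F x).inv)) := by
  refine ⟨fun i hi => ?_, ?_⟩
  · haveI := h1 i hi
    rw [Functor.map_comp]
    infer_instance
  · haveI := h2
    rw [Functor.map_comp]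
    infer_instance

/-- **left exact over the local ring ⟹ left exact near the point** -/
theorem exists_preservesFiniteLimits (F : CochainComplex X.Modules ℤ) (q : ℤ)
    (hE : DCoh.IsPseudoCoherentD q (DCoh.toD X F)) (x : X)
    [DRing.HasLTensorCx (X.presheaf.stalk x)
      (((DerSch.stalkFunctor X x).mapHomologicalComplex (ComplexShape.up ℤ)).obj F)]
    [PreservesFiniteLimits (DerivedCategory.singleFunctor (ModuleCat.{u} (X.presheaf.stalk x)) 0 ⋙
      DRing.LTensorCx (X.presheaf.stalk x)
        (((DerSch.stalkFunctor X x).mapHomologicalComplex (ComplexShape.up ℤ)).obj F) ⋙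
      DerivedCategory.homologyFunctor (ModuleCat.{u} (X.presheaf.stalk x)) (q + 1))]
    [∀ U : X.Opens, DCoh.HasLTensorCx ((DCoh.restrictCx U).obj F)] :
    ∃ U : X.Opens, x ∈ U ∧
      PreservesFiniteLimits (DerivedCategory.singleFunctor (U : Scheme.{u}).Modules 0 ⋙
        DCoh.LTensorCx ((DCoh.restrictCx U).obj F) ⋙
        DerivedCategory.homologyFunctor (U : Scheme.{u}).Modules (q + 1)) := by
  obtain ⟨U, hxU, hU⟩ := exists_approxFlatQ F q hE x (fun P β hPfl hPb h1 h2 => by
    obtain ⟨b, hb⟩ := hPb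
    obtain ⟨h1', h2'⟩ := approx_transport F x q P β h1 h2
    exact flat_cokernel_of_preservesFiniteLimits
      (((DerSch.stalkFunctor X x).mapHomologicalComplex (ComplexShape.up ℤ)).obj F) P hPfl b hb q
      (β ≫ DerivedCategory.Q.map (stalkCxIso F x).inv) h1' h2' (q + 1) rfl)
  exact ⟨U, hxU, preservesFiniteLimits_of_approxFlatQ F q U hU⟩

/-- **right exact over the local ring ⟹ right exact near the point** -/
theorem exists_preservesFiniteColimits (F : CochainComplex X.Modules ℤ) (q : ℤ)
    (hE : DCoh.IsPseudoCoherentD q (DCoh.toD X F)) (x : X)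
    [DRing.HasLTensorCx (X.presheaf.stalk x)
      (((DerSch.stalkFunctor X x).mapHomologicalComplex (ComplexShape.up ℤ)).obj F)]
    [PreservesFiniteColimits (DerivedCategory.singleFunctor (ModuleCat.{u} (X.presheaf.stalk x)) 0 ⋙
      DRing.LTensorCx (X.presheaf.stalk x)
        (((DerSch.stalkFunctor X x).mapHomologicalComplex (ComplexShape.up ℤ)).obj F) ⋙
      DerivedCategory.homologyFunctor (ModuleCat.{u} (X.presheaf.stalk x)) q)]
    [∀ U : X.Opens, DCoh.HasLTensorCx ((DCoh.restrictCx U).obj F)] :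
    ∃ U : X.Opens, x ∈ U ∧
      PreservesFiniteColimits (DerivedCategory.singleFunctor (U : Scheme.{u}).Modules 0 ⋙
        DCoh.LTensorCx ((DCoh.restrictCx U).obj F) ⋙
        DerivedCategory.homologyFunctor (U : Scheme.{u}).Modules q) := by
  obtain ⟨U, hxU, hU⟩ := exists_approxFlatQ F q hE x (fun P β hPfl hPb h1 h2 => by
    obtain ⟨b, hb⟩ := hPb
    obtain ⟨h1', h2'⟩ := approx_transport F x q P β h1 h2
    exact flat_cokernel_of_preservesFiniteColimits
      (((DerSch.stalkFunctor X x).mapHomologicalComplex (ComplexShape.up ℤ)).obj F) P hPfl b hb q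
      (β ≫ DerivedCategory.Q.map (stalkCxIso F x).inv) h1' h2')
  exact ⟨U, hxU, preservesFiniteColimits_of_approxFlatQ F q U hU⟩

end Groth.Agent.Lib.Helper5.RingCBC
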